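import Mathlib

set_option autoImplicit false
universe u
open TensorProduct Polynomial

namespace Groth.Agent.Lib.Helper32.ValDense

section Approx

variable (A K A' K' : Type u) [CommRing A] [IsDomain A] [ValuationRing A] [Field K] [Algebra A K]
  [IsFractionRing A K]
  [CommRing A'] [IsDomain A'] [ValuationRing A'] [Field K'] [Algebra A' K'] [IsFractionRing A' K']
  [Algebra A A'] [Algebra K K'] [Algebra A K'] [IsScalarTower A A' K'] [IsScalarTower A K K']

include A in
theorem exists_add (hdense : ∀ a' b' : A', b' ≠ 0 → ∃ a : A, b' ∣ a' - algebraMap A A' a) (c : K') :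
    ∃ (c0 : K) (a' : A'), c = algebraMap K K' c0 + algebraMap A' K' a' := by
  have hinjA' : Function.Injective (algebraMap A' K') := IsFractionRing.injective A' K'
  rcases ValuationRing.isInteger_or_isInteger A' c with ⟨a', ha'⟩ | ⟨t, ht⟩
  · exact ⟨0, a', by simp [ha']⟩
  · by_cases hc : c = 0
    · exact ⟨0, 0, by simp [hc]⟩
    have ht0 : t ≠ 0 := by
      rintro rfl
      rw [map_zero] at ht
      exact hc (inv_eq_zero.mp ht.symm)
    by_cases htu : IsUnit t
    · obtain ⟨v, rfl⟩ := htu
      refine ⟨0, ((v⁻¹ : A'ˣ) : A'), ?_⟩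
      rw [map_zero, zero_add]
      have h1 : algebraMap A' K' ((v⁻¹ : A'ˣ) : A') * algebraMap A' K' (v : A') = 1 := by
        rw [← map_mul, Units.inv_mul, map_one]
      rw [ht] at h1
      field_simp at h1
      exact h1.symm
    · obtain ⟨a, u, hu⟩ := hdense t (t * t) (mul_ne_zero ht0 ht0)
      have hv : IsUnit (1 - t * u) :=
        IsLocalRing.isUnit_one_sub_self_of_mem_nonunits _
          (by
            intro h
            exact htu (isUnit_of_mul_isUnit_left h))
      obtain ⟨v, hv⟩ := hv
      have ha : algebraMap A A' a = t * (v : A') := by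
        rw [hv]
        linear_combination -hu
      have haK' : algebraMap K K' (algebraMap A K a) = c⁻¹ * algebraMap A' K' (v : A') := by
        rw [← IsScalarTower.algebraMap_apply, IsScalarTower.algebraMap_apply A A' K', ha, map_mul, ht]
      have hvK' : algebraMap A' K' (v : A') * algebraMap A' K' ((v⁻¹ : A'ˣ) : A') = 1 := by
        rw [← map_mul, Units.mul_inv, map_one]
      have hvne : algebraMap A' K' (v : A') ≠ 0 := left_ne_zero_of_mul_eq_one hvK'
      refine ⟨(algebraMap A K a)⁻¹, -(u * ((v⁻¹ : A'ˣ) : A')), ?_⟩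
      rw [map_inv₀, haK', map_neg, map_mul]
      have h3 : algebraMap A' K' ((v⁻¹ : A'ˣ) : A') = (algebraMap A' K' (v : A'))⁻¹ :=
        eq_inv_of_mul_eq_one_right hvK'
      have h4 : algebraMap A' K' (v : A') = 1 - c⁻¹ * algebraMap A' K' u := by
        rw [hv, map_sub, map_one, map_mul, ht]
      rw [h3]
      field_simp
      rw [h4]
      field_simp
      ring

end Approx

end Groth.Agent.Lib.Helper32.ValDense
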