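import Mathlib
import Groth.Agent.Lib.Helper32.ValDense.Basic

set_option autoImplicit false
universe u
open TensorProduct Polynomial

namespace Groth.Agent.Lib.Helper32.ValDense

section Descent

variable (A K L A' K' : Type u) [CommRing A] [IsDomain A] [ValuationRing A] [Field K] [Algebra A K]
  [IsFractionRing A K]
  [Field L] [Algebra K L] [FiniteDimensional K L] [Algebra A L] [IsScalarTower A K L]
  [CommRing A'] [IsDomain A'] [ValuationRing A'] [Field K'] [Algebra A' K'] [IsFractionRing A' K']
  [Algebra A A'] [IsLocalHom (algebraMap A A')]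
  [Algebra K K'] [Algebra A K'] [IsScalarTower A A' K'] [IsScalarTower A K K']

omit [IsDomain A'] [ValuationRing A'] in
theorem mem_range_of_algebraMap_eq (c : K) (a' : A')
    (h : algebraMap K K' c = algebraMap A' K' a') : ∃ a : A, algebraMap A K a = c := by
  have hinjA' : Function.Injective (algebraMap A' K') := IsFractionRing.injective A' K'
  rcases ValuationRing.isInteger_or_isInteger A c with ⟨a, ha⟩ | ⟨a, ha⟩
  · exact ⟨a, ha⟩
  · by_cases hc : c = 0
    · exact ⟨0, by simp [hc]⟩
    have h1 : a' * algebraMap A A' a = 1 := by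
      apply hinjA'
      rw [map_mul, map_one, ← h, ← IsScalarTower.algebraMap_apply A A' K',
        IsScalarTower.algebraMap_apply A K K', ha, ← map_mul, mul_inv_cancel₀ hc, map_one]
    have h2 : IsUnit (algebraMap A A' a) := IsUnit.of_mul_eq_one_right _ h1
    have h3 : IsUnit a := IsLocalHom.map_nonunit a h2
    obtain ⟨v, rfl⟩ := h3
    refine ⟨((v⁻¹ : Aˣ) : A), ?_⟩
    have h4 : algebraMap A K ((v⁻¹ : Aˣ) : A) * algebraMap A K (v : A) = 1 := by
      rw [← map_mul, Units.inv_mul, map_one]
    rw [ha] at h4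
    field_simp at h4
    exact h4

def iota : A' →+* K' ⊗[K] L :=
  (Algebra.TensorProduct.includeLeft : K' →ₐ[K] K' ⊗[K] L).toRingHom.comp (algebraMap A' K')

omit [FiniteDimensional K L] in
theorem coeff_eq_zero_of_sum_tmul (y : L) (r : ℕ → K')
    (h : ∑ i ∈ Finset.range (minpoly K y).natDegree, r i ⊗ₜ[K] (y ^ i) = (0 : K' ⊗[K] L))
    (j : ℕ) (hj : j < (minpoly K y).natDegree) : r j = 0 := by
  classical
  have hli := linearIndependent_pow (K := K) y
  have hinj : Function.Injective
      (Finsupp.linearCombination K fun i : Fin (minpoly K y).natDegree => y ^ (i : ℕ)) := hli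
  obtain ⟨g, hg⟩ := LinearMap.exists_leftInverse_of_injective _ (LinearMap.ker_eq_bot.mpr hinj)
  have hgy : ∀ i : Fin (minpoly K y).natDegree, g (y ^ (i : ℕ)) = Finsupp.single i 1 := by
    intro i
    have := LinearMap.congr_fun hg (Finsupp.single i 1)
    simpa using this
  let ℓ : L →ₗ[K] K := (Finsupp.lapply (⟨j, hj⟩ : Fin (minpoly K y).natDegree)).comp g
  let T : K' ⊗[K] L →ₗ[K] K' :=
    (TensorProduct.rid K K').toLinearMap.comp (LinearMap.lTensor K' ℓ)
  have hT : ∀ (c : K') (z : L), T (c ⊗ₜ z) = ℓ z • c := by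
    intro c z
    simp [T]
  have h2 := congrArg T h
  rw [map_sum, map_zero] at h2
  simp only [hT] at h2
  rw [Finset.sum_eq_single j] at h2
  · have : ℓ (y ^ j) = 1 := by
      have := hgy ⟨j, hj⟩
      simp only [ℓ, LinearMap.comp_apply, Finsupp.lapply_apply]
      simp only at this
      rw [this]
      simp
    rw [this, one_smul] at h2
    exact h2
  · intro i hi hij
    have hi' : i < (minpoly K y).natDegree := Finset.mem_range.mp hi
    have : ℓ (y ^ i) = 0 := by
      have := hgy ⟨i, hi'⟩
      simp only [ℓ, LinearMap.comp_apply, Finsupp.lapply_apply]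
      simp only at this
      rw [this]
      rw [Finsupp.single_apply, if_neg]
      intro h
      exact hij (by simpa using congrArg Fin.val h)
    rw [this, zero_smul]
  · intro h
    exact absurd (Finset.mem_range.mpr hj) h

theorem isIntegral_of_eval₂_eq_zero (y : L) (Q : A'[X]) (hQ : Q.Monic)
    (h : eval₂ (iota K L A' K') ((1 : K') ⊗ₜ[K] y) Q = 0) : IsIntegral A y := by
  have hy : IsIntegral K y := IsIntegral.of_finite K y
  have hμ : (minpoly K y).Monic := minpoly.monic hy
  set μ' : K'[X] := (minpoly K y).map (algebraMap K K') with hμ'def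
  have hμ' : μ'.Monic := hμ.map _
  set Q' : K'[X] := Q.map (algebraMap A' K') with hQ'def
  have e1 : aeval ((1 : K') ⊗ₜ[K] y) Q' = 0 := by
    rw [aeval_def, hQ'def, eval₂_map]
    have : (algebraMap K' (K' ⊗[K] L)).comp (algebraMap A' K') = iota K L A' K' := by
      ext a
      simp [iota, Algebra.TensorProduct.algebraMap_apply]
    rw [this]
    exact h
  have e2 : aeval ((1 : K') ⊗ₜ[K] y) μ' = 0 := by
    rw [hμ'def, aeval_map_algebraMap]
    have : ((1 : K') ⊗ₜ[K] y) = (Algebra.TensorProduct.includeRight : L →ₐ[K] K' ⊗[K] L) y := rfl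
    rw [this, aeval_algHom_apply, minpoly.aeval, map_zero]
  set R : K'[X] := Q' %ₘ μ' with hRdef
  have e3 : aeval ((1 : K') ⊗ₜ[K] y) R = 0 := by
    have h1 := modByMonic_add_div Q' μ'
    have h2 := congrArg (aeval ((1 : K') ⊗ₜ[K] y)) h1
    rw [map_add, map_mul, e2, zero_mul, add_zero, e1] at h2
    exact h2
  have hdeg : R.degree < μ'.degree := degree_modByMonic_lt _ hμ'
  have hnat : μ'.natDegree = (minpoly K y).natDegree := natDegree_map _
  have hR0 : R = 0 := by
    by_contra hR
    have hRn : R.natDegree < (minpoly K y).natDegree := by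
      rw [← hnat]
      exact natDegree_lt_natDegree hR hdeg
    have hsum := as_sum_range' R _ hRn
    have e4 : ∑ i ∈ Finset.range (minpoly K y).natDegree, R.coeff i ⊗ₜ[K] (y ^ i)
        = (0 : K' ⊗[K] L) := by
      rw [← e3]
      conv_rhs => rw [hsum]
      rw [map_sum]
      refine Finset.sum_congr rfl fun i _ => ?_
      rw [aeval_monomial, Algebra.TensorProduct.algebraMap_apply, Algebra.TensorProduct.tmul_pow,
        Algebra.TensorProduct.tmul_mul_tmul]
      simp
    apply hR
    ext j
    rw [coeff_zero]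
    by_cases hj : j < (minpoly K y).natDegree
    · exact coeff_eq_zero_of_sum_tmul K L K' y (fun i => R.coeff i) e4 j hj
    · exact coeff_eq_zero_of_natDegree_lt (lt_of_lt_of_le hRn (not_lt.mp hj))
  have hdvd : μ' ∣ Q' := (modByMonic_eq_zero_iff_dvd hμ').mp hR0
  obtain ⟨g', hg'⟩ := IsIntegrallyClosed.eq_map_mul_C_of_dvd K' hQ hdvd
  rw [hμ'.leadingCoeff, C_1, mul_one] at hg'
  have hlifts : minpoly K y ∈ lifts (algebraMap A K) := by
    rw [lifts_iff_coeff_lifts]
    intro n
    have h1 : algebraMap K K' ((minpoly K y).coeff n) = algebraMap A' K' (g'.coeff n) := by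
      have := congrArg (fun p => coeff p n) hg'
      simp only [coeff_map, hμ'def] at this
      exact this.symm
    obtain ⟨a, ha⟩ := mem_range_of_algebraMap_eq A K A' K' _ _ h1
    exact ⟨a, ha⟩
  obtain ⟨q, hq, -, hqm⟩ := lifts_and_degree_eq_and_monic hlifts hμ
  refine ⟨q, hqm, ?_⟩
  have : algebraMap A L = (algebraMap K L).comp (algebraMap A K) := IsScalarTower.algebraMap_eq A K L
  rw [this, ← eval₂_map, hq, ← aeval_def, minpoly.aeval]

end Descent

end Groth.Agent.Lib.Helper32.ValDense
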