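import Mathlib
import Groth.Agent.Lib.Helper32.ValDense.Descent

set_option autoImplicit false
universe u
open TensorProduct Polynomial

namespace Groth.Agent.Lib.Helper32.ValDense

section Repr

variable (A K L A' K' : Type u) [CommRing A] [IsDomain A] [ValuationRing A] [Field K] [Algebra A K]
  [IsFractionRing A K]
  [Field L] [Algebra K L] [FiniteDimensional K L] [Algebra A L] [IsScalarTower A K L]
  [CommRing A'] [IsDomain A'] [ValuationRing A'] [Field K'] [Algebra A' K'] [IsFractionRing A' K']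
  [Algebra A A'] [IsLocalHom (algebraMap A A')]
  [Algebra K K'] [Algebra A K'] [IsScalarTower A A' K'] [IsScalarTower A K K']

theorem exists_repr (hdense : ∀ a' b' : A', b' ≠ 0 → ∃ a : A, b' ∣ a' - algebraMap A A' a)
    (w : K' ⊗[K] L) :
    ∃ (y : L) (n : ℕ) (a : Fin n → A') (l : Fin n → L), (∀ i, IsIntegral A (l i)) ∧
      w = (1 : K') ⊗ₜ[K] y + ∑ i, algebraMap A' K' (a i) ⊗ₜ[K] l i := by
  induction w using TensorProduct.induction_on with
  | zero => exact ⟨0, 0, Fin.elim0, Fin.elim0, fun i => i.elim0, by simp⟩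
  | tmul c l =>
    have halg : IsAlgebraic A l :=
      (IsFractionRing.isAlgebraic_iff A K L).mpr (Algebra.IsAlgebraic.isAlgebraic l)
    obtain ⟨d, hd0, hd⟩ := halg.exists_integral_multiple
    have hdK : algebraMap A K d ≠ 0 := by
      intro h
      exact hd0 ((IsFractionRing.injective A K) (by rw [h, map_zero]))
    obtain ⟨c0, a', hc'⟩ := exists_add A K A' K' hdense (c * (algebraMap K K' (algebraMap A K d))⁻¹)
    refine ⟨c0 • (d • l), 1, fun _ => a', fun _ => d • l, fun _ => hd, ?_⟩
    have hdK' : algebraMap K K' (algebraMap A K d) ≠ 0 := by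
      intro h
      exact hdK ((algebraMap K K').injective (by rw [h, map_zero]))
    have h1 : (1 : K') ⊗ₜ[K] (c0 • (d • l)) = (algebraMap K K' c0) ⊗ₜ[K] (d • l) := by
      rw [TensorProduct.tmul_smul, TensorProduct.smul_tmul', Algebra.smul_def, mul_one]
    rw [Fin.sum_univ_one, h1, ← TensorProduct.add_tmul, ← hc']
    rw [← IsScalarTower.algebraMap_smul K d l, TensorProduct.tmul_smul, TensorProduct.smul_tmul',
      Algebra.smul_def]
    congr 1
    field_simp
  | add w₁ w₂ h₁ h₂ =>
    obtain ⟨y₁, n₁, a₁, l₁, hl₁, e₁⟩ := h₁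
    obtain ⟨y₂, n₂, a₂, l₂, hl₂, e₂⟩ := h₂
    refine ⟨y₁ + y₂, n₁ + n₂, Fin.append a₁ a₂, Fin.append l₁ l₂, ?_, ?_⟩
    · intro i
      refine Fin.addCases (fun j => ?_) (fun j => ?_) i
      · rw [Fin.append_left]
        exact hl₁ j
      · rw [Fin.append_right]
        exact hl₂ j
    · rw [Fin.sum_univ_add]
      simp only [Fin.append_left, Fin.append_right]
      rw [e₁, e₂, TensorProduct.tmul_add]
      abel

def mkIota : A' →+* (K' ⊗[K] L) ⧸ nilradical (K' ⊗[K] L) :=
  (Ideal.Quotient.mk (nilradical (K' ⊗[K] L))).comp (iota K L A' K')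

omit [IsDomain A] [ValuationRing A] [IsFractionRing A K] [FiniteDimensional K L] [IsDomain A']
  [ValuationRing A'] [IsFractionRing A' K'] [IsLocalHom (algebraMap A A')] in
theorem isIntegralElem_mk_one_tmul (l : L) (hl : IsIntegral A l) :
    (mkIota K L A' K').IsIntegralElem
      (Ideal.Quotient.mk (nilradical (K' ⊗[K] L)) ((1 : K') ⊗ₜ[K] l)) := by
  obtain ⟨p, hp, hpl⟩ := hl
  refine ⟨p.map (algebraMap A A'), hp.map _, ?_⟩
  rw [eval₂_map]
  set g : L →+* (K' ⊗[K] L) ⧸ nilradical (K' ⊗[K] L) :=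
    (Ideal.Quotient.mk (nilradical (K' ⊗[K] L))).comp
      (Algebra.TensorProduct.includeRight : L →ₐ[K] K' ⊗[K] L).toRingHom with hg
  have h1 : (mkIota K L A' K').comp (algebraMap A A') = g.comp (algebraMap A L) := by
    ext a
    simp only [mkIota, iota, hg, RingHom.comp_apply, AlgHom.toRingHom_eq_coe, RingHom.coe_coe,
      Algebra.TensorProduct.includeLeft_apply, Algebra.TensorProduct.includeRight_apply]
    congr 1
    rw [← IsScalarTower.algebraMap_apply A A' K', IsScalarTower.algebraMap_apply A K K',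
      IsScalarTower.algebraMap_apply A K L, Algebra.algebraMap_eq_smul_one (A := K'),
      Algebra.algebraMap_eq_smul_one (A := L), TensorProduct.smul_tmul]
  have h2 : Ideal.Quotient.mk (nilradical (K' ⊗[K] L)) ((1 : K') ⊗ₜ[K] l) = g l := rfl
  rw [h1, h2, ← hom_eval₂, hpl, map_zero]

omit [IsDomain A] [ValuationRing A] [IsFractionRing A K] [FiniteDimensional K L] [IsDomain A']
  [ValuationRing A'] [IsFractionRing A' K'] [IsLocalHom (algebraMap A A')] in
theorem isIntegralElem_mk_sum {n : ℕ} (a : Fin n → A') (l : Fin n → L)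
    (hl : ∀ i, IsIntegral A (l i)) :
    (mkIota K L A' K').IsIntegralElem
      (Ideal.Quotient.mk (nilradical (K' ⊗[K] L))
        (∑ i, algebraMap A' K' (a i) ⊗ₜ[K] l i)) := by
  classical
  rw [map_sum]
  have key : ∀ s : Finset (Fin n), (mkIota K L A' K').IsIntegralElem
      (∑ i ∈ s, Ideal.Quotient.mk (nilradical (K' ⊗[K] L))
        (algebraMap A' K' (a i) ⊗ₜ[K] l i)) := by
    intro s
    induction s using Finset.induction_on with
    | empty =>
      rw [Finset.sum_empty]
      have := RingHom.isIntegralElem_map (mkIota K L A' K') (x := 0)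
      rwa [map_zero] at this
    | insert i s hi ih =>
      rw [Finset.sum_insert hi]
      refine RingHom.IsIntegralElem.add _ ?_ ih
      have h1 : Ideal.Quotient.mk (nilradical (K' ⊗[K] L)) (algebraMap A' K' (a i) ⊗ₜ[K] l i)
          = mkIota K L A' K' (a i)
            * Ideal.Quotient.mk (nilradical (K' ⊗[K] L)) ((1 : K') ⊗ₜ[K] l i) := by
        simp only [mkIota, iota, RingHom.comp_apply, AlgHom.toRingHom_eq_coe, RingHom.coe_coe,
          Algebra.TensorProduct.includeLeft_apply]
        rw [← map_mul, Algebra.TensorProduct.tmul_mul_tmul, mul_one, one_mul]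
      rw [h1]
      exact RingHom.IsIntegralElem.mul _ (RingHom.isIntegralElem_map _)
        (isIntegralElem_mk_one_tmul A K L A' K' (l i) (hl i))
  exact key Finset.univ

theorem isIntegral_of_isIntegralElem_mk (y : L)
    (h : (mkIota K L A' K').IsIntegralElem
      (Ideal.Quotient.mk (nilradical (K' ⊗[K] L)) ((1 : K') ⊗ₜ[K] y))) : IsIntegral A y := by
  obtain ⟨p, hp, hpy⟩ := h
  have h1 : Ideal.Quotient.mk (nilradical (K' ⊗[K] L))
      (eval₂ (iota K L A' K') ((1 : K') ⊗ₜ[K] y) p) = 0 := by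
    rw [hom_eval₂]
    exact hpy
  rw [Ideal.Quotient.eq_zero_iff_mem, mem_nilradical] at h1
  obtain ⟨N, hN⟩ := h1
  rw [← eval₂_pow] at hN
  exact isIntegral_of_eval₂_eq_zero A K L A' K' y (p ^ N) (hp.pow N) hN

end Repr

end Groth.Agent.Lib.Helper32.ValDense
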